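import Mathlib.Algebra.Homology.DerivedCategory.Ext.ExactSequences

/-!
# Multiplication by a class supported on a quotient: abstract form

For short exact sequences `0 → L → M → P → 0` and `0 → L' → Z → Z' → 0` with
`Ext^{≤ q+1}(Z, L) = 0`, `Ext^*(L', P) = 0` and `Ext^{> 0}(L', M) = 0`, and `g : P → M[2]` such that
composition with `g` is bijective `Ext^q(Z', P) → Ext^{q+2}(Z', M)`, composition with `M → P → M[2]` is
bijective `Ext^q(Z, M) → Ext^{q+2}(Z, M)`.
-/

set_option autoImplicit false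

universe w v u

open CategoryTheory Limits Abelian

namespace Groth.Agent.Lefpen.H287.HypAbs

variable {C : Type u} [Category.{v} C] [Abelian C] [HasExt.{w} C]

/-- postcomposition with the epimorphism of a short exact sequence is bijective when the groups of the
kernel vanish. -/
theorem bijective_postcomp {S : ShortComplex C} (hS : S.ShortExact) {A : C} (q : ℕ)
    (h0 : ∀ x : Ext.{w} A S.X₁ q, x = 0) (h1 : ∀ x : Ext.{w} A S.X₁ (q + 1), x = 0) :
    Function.Bijective (fun x : Ext.{w} A S.X₂ q => x.comp (Ext.mk₀ S.g) (add_zero q)) := by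
  constructor
  · intro x y hxy
    rw [← sub_eq_zero]
    have h : (x - y).comp (Ext.mk₀ S.g) (add_zero q) = 0 := by
      have h' := ((Ext.mk₀ S.g).postcomp A (add_zero q)).map_sub x y
      exact h'.trans (sub_eq_zero.2 hxy)
    obtain ⟨z, hz⟩ := Ext.covariant_sequence_exact₂ A hS (x - y) h
    rw [← hz, h0 z, Ext.zero_comp]
  · intro y
    obtain ⟨x, hx⟩ := Ext.covariant_sequence_exact₃ A hS y rfl (h1 _)
    exact ⟨x, hx⟩

/-- precomposition with the epimorphism of a short exact sequence is bijective when the groups of the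
kernel vanish. -/
theorem bijective_precomp {T : ShortComplex C} (hT : T.ShortExact) {B : C} (q : ℕ)
    (h0 : ∀ x : Ext.{w} T.X₁ B q, x = 0) (h1 : ∀ a, a + 1 = q → ∀ x : Ext.{w} T.X₁ B a, x = 0) :
    Function.Bijective (fun x : Ext.{w} T.X₃ B q => (Ext.mk₀ T.g).comp x (zero_add q)) := by
  constructor
  · intro x y hxy
    rw [← sub_eq_zero]
    have h : (Ext.mk₀ T.g).comp (x - y) (zero_add q) = 0 := by
      have h' := ((Ext.mk₀ T.g).precomp B (zero_add q)).map_sub x y
      exact h'.trans (sub_eq_zero.2 hxy)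
    rcases q with _ | q
    · obtain ⟨f, hf⟩ := (Ext.mk₀_bijective _ _).2 (x - y)
      rw [← hf, Ext.mk₀_comp_mk₀] at h
      have h2 : T.g ≫ f = 0 := by
        apply (Ext.mk₀_bijective _ _).1
        rw [h, Ext.mk₀_zero]
      have := hT.epi_g
      rw [← hf, (cancel_epi T.g).1 (h2.trans comp_zero.symm), Ext.mk₀_zero]
    · obtain ⟨z, hz⟩ := Ext.contravariant_sequence_exact₃ hT B (x - y) h (add_comm 1 q)
      rw [← hz, h1 q rfl z, Ext.comp_zero]
  · intro y
    obtain ⟨x, hx⟩ := Ext.contravariant_sequence_exact₂ hT B y (h0 _)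
    exact ⟨x, hx⟩

theorem bijective_comp {S T : ShortComplex C} (hS : S.ShortExact) (hT : T.ShortExact)
    (q q' : ℕ) (h : q + 2 = q')
    (h1 : ∀ a, a ≤ q + 1 → ∀ x : Ext.{w} T.X₂ S.X₁ a, x = 0)
    (h2 : ∀ a, ∀ x : Ext.{w} T.X₁ S.X₃ a, x = 0)
    (h3 : ∀ a, 0 < a → ∀ x : Ext.{w} T.X₁ S.X₂ a, x = 0)
    (g : Ext.{w} S.X₃ S.X₂ 2)
    (hg : Function.Bijective (fun y : Ext.{w} T.X₃ S.X₃ q => y.comp g h)) :
    Function.Bijective (fun x : Ext.{w} T.X₂ S.X₂ q =>
      x.comp ((Ext.mk₀ S.g).comp g (zero_add 2)) h) := by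
  have hA : Function.Bijective (fun x : Ext.{w} T.X₂ S.X₂ q => x.comp (Ext.mk₀ S.g) (add_zero q)) :=
    bijective_postcomp hS q (h1 q (by omega)) (h1 (q + 1) le_rfl)
  have hB : Function.Bijective (fun x : Ext.{w} T.X₃ S.X₃ q => (Ext.mk₀ T.g).comp x (zero_add q)) :=
    bijective_precomp hT q (h2 q) (fun a _ => h2 a)
  have hD : Function.Bijective
      (fun x : Ext.{w} T.X₃ S.X₂ q' => (Ext.mk₀ T.g).comp x (zero_add q')) :=
    bijective_precomp hT q' (h3 q' (by omega)) (fun a ha => h3 a (by omega))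
  have hE : Function.Bijective (fun x : Ext.{w} T.X₂ S.X₃ q => x.comp g h) := by
    have e : (fun x : Ext.{w} T.X₂ S.X₃ q => x.comp g h) ∘
        (fun x : Ext.{w} T.X₃ S.X₃ q => (Ext.mk₀ T.g).comp x (zero_add q)) =
        (fun x : Ext.{w} T.X₃ S.X₂ q' => (Ext.mk₀ T.g).comp x (zero_add q')) ∘
          (fun y : Ext.{w} T.X₃ S.X₃ q => y.comp g h) := by
      funext y
      exact Ext.comp_assoc _ _ _ (zero_add q) h (by omega)
    exact (Function.Bijective.of_comp_iff _ hB).1 (e ▸ hD.comp hg)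
  have e : (fun x : Ext.{w} T.X₂ S.X₂ q => x.comp ((Ext.mk₀ S.g).comp g (zero_add 2)) h) =
      (fun x : Ext.{w} T.X₂ S.X₃ q => x.comp g h) ∘
        (fun x : Ext.{w} T.X₂ S.X₂ q => x.comp (Ext.mk₀ S.g) (add_zero q)) := by
    funext x
    exact (Ext.comp_assoc _ _ _ (add_zero q) (zero_add 2) (by omega)).symm
  rw [e]
  exact hE.comp hA

end Groth.Agent.Lefpen.H287.HypAbs
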