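import Groth.Agent.Lefpen.H287.HypAbs
import Groth.Agent.Etcore.OpenClosed
import Groth.Agent.Etcore.ShriekExact
import Groth.Agent.Etcore.ExtAdj
import Groth.Agent.Etcore.EtInst
import Groth.Agent.Sga4h.EtaleRes2
import Groth.Agent.Sga4B.HTools

/-!
# Multiplication by a class supported on a closed subscheme with acyclic complement

`i : D ⟶ X` closed immersion, `j : U ⟶ X` the complementary open immersion:
* `extShriek`: `Ext^q(j_! A, F) = Ext^q(A, F|_U)`;
* `eq_zero_shriek_push`: `Ext^q(j_! A, i_* G) = 0`;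
* `bijective_mul`: if `H^a(X, j_! j^{-1} M) = 0` for `a ≤ q + 1` and `H^a(U, M|_U) = 0` for `a > 0`, and
  `g : i_* i^{-1} M → M[2]` induces a bijection `Ext^q(i_* T, i_* i^{-1} M) → Ext^{q+2}(i_* T, M)` for
  `T = i^{-1} ℤ`, then composition with `M → i_* i^{-1} M → M[2]` is bijective
  `H^q(X, M) → H^{q+2}(X, M)`.
-/

set_option autoImplicit false
universe u
open CategoryTheory CategoryTheory.Limits AlgebraicGeometry Opposite Abelian
open scoped Groth.Agent.Etcore.EtInst
open Groth.Agent.Etcore.EtInst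

namespace Groth.Agent.Lefpen.H287.HypLoc

open Groth.Agent.Etcore

section

variable {U X : Scheme.{u}} (j : U ⟶ X) [AlgebraicGeometry.Etale j] [EtShriek.JCont j]

/-- `Ext^q(j_! A, F) = Ext^q(A, F|_U)`. -/
noncomputable def extShriek (A : EtCoh.Ab U) (F : EtCoh.Ab X) (q : ℕ) :
    Ext.{u + 1} ((EtShriek.extZero j).obj A) F q ≃+
      Ext.{u + 1} A ((EtShriek.restrAlong j).obj F) q :=
  have : (EtShriek.extZero j).Additive := (EtShriek.extZeroAdj j).left_adjoint_additive
  have : PreservesFiniteLimits (EtShriek.extZero j) :=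
    Groth.Agent.Etcore.ShriekExact.preservesFiniteLimits_extZero j
  have : PreservesFiniteColimits (EtShriek.extZero j) := by
    have : PreservesColimitsOfSize.{0, 0} (EtShriek.extZero j) :=
      (EtShriek.extZeroAdj j).leftAdjoint_preservesColimits
    exact PreservesColimitsOfSize.preservesFiniteColimits _
  ExtAdj.extAdj (EtShriek.extZeroAdj j) A F q

/-- `Ext^q(j_! j^{-1} ℤ, F) = H^q(U, F|_U)`. -/
noncomputable def extShriekH (F : EtCoh.Ab X) (q : ℕ) :
    Ext.{u + 1} ((EtShriek.extZero j).obj ((EtShriek.restrAlong j).obj (EtCoh.const X ℤ))) F q ≃+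
      HH U ((EtShriek.restrAlong j).obj F) q :=
  (extShriek j _ F q).trans
    (Sga4B.HTools.extPrecomp (Sga4h.EtaleRes2.constRestr j ℤ).symm _ q)

end

section

variable {D U X : Scheme.{u}} (i : D ⟶ X) [IsClosedImmersion i] (j : U ⟶ X) [IsOpenImmersion j]
  [AlgebraicGeometry.Etale j] [EtShriek.JCont j]

omit [IsClosedImmersion i] [IsOpenImmersion j] in
theorem eq_zero_shriek_push (hd : Disjoint (Set.range i) (Set.range j)) (A : EtCoh.Ab U)
    (G : EtCoh.Ab D) (q : ℕ)
    (x : Ext.{u + 1} ((EtShriek.extZero j).obj A) ((EtCoh.push i).obj G) q) : x = 0 := by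
  apply (extShriek j A _ q).injective
  rw [map_zero]
  have h0 := OpenClosed.isZero_restr_push i j hd G
  have h : ∀ y : Ext.{u + 1} A ((EtShriek.restrAlong j).obj ((EtCoh.push i).obj G)) q, y = 0 := by
    intro y
    have h1 : 𝟙 ((EtShriek.restrAlong j).obj ((EtCoh.push i).obj G)) = 0 := h0.eq_of_src _ _
    rw [← Ext.comp_mk₀_id y, h1, Ext.mk₀_zero, Ext.comp_zero]
  exact h _

theorem bijective_mul (hd : IsCompl (Set.range i) (Set.range j)) (M : EtCoh.Ab X)
    (q q' : ℕ) (h : q + 2 = q')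
    (h1 : ∀ a, a ≤ q + 1 →
      Subsingleton (HH X ((EtShriek.extZero j).obj ((EtShriek.restrAlong j).obj M)) a))
    (h3 : ∀ a, 0 < a → Subsingleton (HH U ((EtShriek.restrAlong j).obj M) a))
    (g : Ext.{u + 1} ((EtCoh.push i).obj ((EtCoh.pull i).obj M)) M 2)
    (hg : Function.Bijective (fun x : Ext.{u + 1} ((EtCoh.push i).obj
      ((EtCoh.pull i).obj (EtCoh.const X ℤ))) ((EtCoh.push i).obj ((EtCoh.pull i).obj M)) q =>
      x.comp g h)) :
    Function.Bijective (fun x : Ext.{u + 1} (EtCoh.const X ℤ) M q =>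
      x.comp ((Ext.mk₀ ((EtCoh.pullPushAdj i).unit.app M)).comp g (zero_add 2)) h) := by
  refine HypAbs.bijective_comp (OpenClosed.shortExact i j hd M)
    (OpenClosed.shortExact i j hd (EtCoh.const X ℤ)) q q' h ?_ ?_ ?_ g hg
  · intro a ha x
    have := h1 a ha
    exact Subsingleton.elim (α := HH X ((EtShriek.extZero j).obj
      ((EtShriek.restrAlong j).obj M)) a) x 0
  · intro a x
    exact eq_zero_shriek_push i j hd.disjoint _ _ a x
  · intro a ha x
    have := h3 a ha
    have h4 := (extShriekH j M a).injective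
    apply h4
    exact Subsingleton.elim _ _

end

end Groth.Agent.Lefpen.H287.HypLoc
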