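import Groth.Agent.Lefpen.H287.HypLoc
import Groth.Agent.Sga5.ProjSmooth
import Groth.Agent.Sga5.ProjCoh
import Groth.Agent.Sga5.HcConst
import Groth.Agent.Ega3B.ProjProper
import Groth.Agent.Sga4h.TensorConst
import Groth.Agent.Sga4B.HTools
import Groth.Agent.Etrest.ConstBasic
import Groth.Agent.S3112

/-!
# Multiplication by the class of a hyperplane on the cohomology of projective space

`k` algebraically closed, `m` invertible in `k`, `X = P^N_k`, `D ⊂ X` a closed subscheme whose complement is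
a standard affine chart `j : A^N ⟶ X`:
* `subsingleton_H_chart`: `H^a(X, j_! ℤ/m) = 0` for `a < 2N`;
* `bijective_hyper`: if `g : i_* i^{-1} ℤ/m → ℤ/m[2]` is a purity class (composition with it is bijective
  `Ext^q(i_* T, i_* i^{-1} ℤ/m) → Ext^{q+2}(i_* T, ℤ/m)`), then composition with `ℤ/m → i_* i^{-1} ℤ/m → ℤ/m[2]`
  is bijective `H^q(X, ℤ/m) → H^{q+2}(X, ℤ/m)` for `q + 2 ≤ 2N`.
-/

set_option autoImplicit false
universe u
open CategoryTheory CategoryTheory.Limits AlgebraicGeometry Opposite Abelian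
open scoped Groth.Agent.Etcore.EtInst
open Groth.Agent.Etcore.EtInst

namespace Groth.Agent.Lefpen.H287.HypMul

open Groth.Agent.Sga5.ProjSmooth

variable (k : Type u) [Field k] [IsAlgClosed k] (N m : ℕ) (hm : (m : k) ≠ 0) (t : Fin (N + 1))

/-- the affine space `A^N`. -/
noncomputable abbrev Aff : Scheme.{u} := Spec (CommRingCat.of (MvPolynomial (Fin N) k))

include hm in
/-- All Tate twists on affine space are constant, so that their cohomology vanishes in positive degrees. -/
theorem subsingleton_H_tate (d q : ℕ) (hq : 0 < q) :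
    Subsingleton (EtCoh.H (Aff k N) (EtDual.tate (Aff k N) m d) q) := by
  obtain ⟨e⟩ := Groth.Agent.Sga5.ProjCoh.nonempty_const_mu k
    (Spec.map (CommRingCat.ofHom (MvPolynomial.C : k →+* MvPolynomial (Fin N) k))) m hm
  obtain ⟨e'⟩ := Groth.Agent.Sga4h.TensorConst.nonempty_tate_iso_const m e d
  exact Sga4B.HTools.subsingleton_H_of_iso e' q
    (Groth.Agent.Sga5.ProjCoh.subsingleton_H_spec k m hm N q hq)

include hm in
/-- `H^a(P^N, j_! ℤ/m) = 0` for `a < 2N`, `j` the inclusion of a standard affine chart. -/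
theorem subsingleton_H_chart [EtShriek.JCont (chart N k t)] (a : ℕ) (ha : a + 1 ≤ 2 * N) :
    Subsingleton (EtCoh.H (CohB1.ProjSpace N k)
      ((EtShriek.extZero (chart N k t)).obj (EtCoh.const (Aff k N) (ZMod m))) a) := by
  have hm0 : m ≠ 0 := by rintro rfl; simp at hm
  have hsm : SmoothOfRelativeDimension N (chart N k t ≫ CohB1.ProjSpace.toSpec N k) := by
    rw [chart_toSpec]
    exact smooth_chart_toSpec N k
  have hp : IsProper (CohB1.ProjSpace.toSpec N k) :=
    Groth.Agent.Ega3B.ProjProper.isProper_toSpec N k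
  obtain ⟨e⟩ := Groth.Agent.S3112.result k (CohB1.ProjSpace.toSpec N k) (chart N k t) N m hm a (by omega)
  have h1 := subsingleton_H_tate k N m hm N (2 * N - a) (by omega)
  have h2 : Subsingleton (EtCoh.H (CohB1.ProjSpace N k)
      ((EtShriek.extZero (chart N k t)).obj (EtCoh.const (Aff k N) (ZMod m))) a →+ ZMod m) :=
    e.symm.toEquiv.subsingleton
  refine Groth.Agent.Sga5.HcConst.subsingleton_of_hom_zmod m hm0 ?_ h2
  refine Groth.Agent.Sga5.HcConst.H_nsmul_eq_zero m _ ?_ a
  have hk := Groth.Agent.Sga5.HcConst.killedBy_const (Aff k N) m (ZMod m)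
    (Groth.Agent.Sga5.HcConst.zmod_nsmul m)
  rw [Groth.Agent.Sga4B.ShriekTools.killedBy_iff] at hk ⊢
  have : (EtShriek.extZero (chart N k t)).Additive :=
    (EtShriek.extZeroAdj (chart N k t)).left_adjoint_additive
  exact Groth.Agent.Sga5.HcConst.nsmul_id_obj _ m _ hk

variable {D : Scheme.{u}} (i : D ⟶ CohB1.ProjSpace N k) [IsClosedImmersion i]
  (hi : Set.range i = (Set.range (chart N k t))ᶜ)

include hm hi in
/-- The weak form: only the bijectivity for `T = i^{-1} ℤ` in degree `q` is needed. -/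
theorem bijective_hyper' (q q' : ℕ) (h : q + 2 = q') (hq' : q' ≤ 2 * N)
    (g : Ext.{u + 1} ((EtCoh.push i).obj ((EtCoh.pull i).obj
      (EtCoh.const (CohB1.ProjSpace N k) (ZMod m)))) (EtCoh.const (CohB1.ProjSpace N k) (ZMod m)) 2)
    (hg : Function.Bijective (fun x : Ext.{u + 1} ((EtCoh.push i).obj
      ((EtCoh.pull i).obj (EtCoh.const (CohB1.ProjSpace N k) ℤ))) ((EtCoh.push i).obj
        ((EtCoh.pull i).obj (EtCoh.const (CohB1.ProjSpace N k) (ZMod m)))) q => x.comp g h)) :
    Function.Bijective (fun x : Ext.{u + 1} (EtCoh.const (CohB1.ProjSpace N k) ℤ)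
        (EtCoh.const (CohB1.ProjSpace N k) (ZMod m)) q =>
      x.comp ((Ext.mk₀ ((EtCoh.pullPushAdj i).unit.app
        (EtCoh.const (CohB1.ProjSpace N k) (ZMod m)))).comp g (zero_add 2)) h) := by
  have hJ : EtShriek.JCont (chart N k t) := Groth.Agent.Sga4h.EtaleRes.jCont _
  have hd : IsCompl (Set.range i) (Set.range (chart N k t)) := by
    rw [hi]
    exact isCompl_compl.symm
  refine HypLoc.bijective_mul i (chart N k t) hd _ q q' h ?_ ?_ g hg
  · intro a ha
    exact Sga4B.HTools.subsingleton_H_of_iso ((EtShriek.extZero (chart N k t)).mapIso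
      (Groth.Agent.Sga4h.EtaleRes2.constRestr (chart N k t) (ZMod m)).symm) a
      (subsingleton_H_chart k N m hm t a (by omega))
  · intro a ha
    exact Sga4B.HTools.subsingleton_H_of_iso
      (Groth.Agent.Sga4h.EtaleRes2.constRestr (chart N k t) (ZMod m)).symm a
      (Groth.Agent.Sga5.ProjCoh.subsingleton_H_spec k m hm N a ha)

include hm hi in
/-- Multiplication by the class of a hyperplane is bijective `H^q(P^N, ℤ/m) → H^{q+2}(P^N, ℤ/m)` for
`q + 2 ≤ 2N`. -/
theorem bijective_hyper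
    (g : Ext.{u + 1} ((EtCoh.push i).obj ((EtCoh.pull i).obj
      (EtCoh.const (CohB1.ProjSpace N k) (ZMod m)))) (EtCoh.const (CohB1.ProjSpace N k) (ZMod m)) 2)
    (hg : ∀ (T : EtCoh.Ab D) (q q' : ℕ) (h : q + 2 = q'),
      Function.Bijective (fun x : Ext.{u + 1} ((EtCoh.push i).obj T) ((EtCoh.push i).obj
        ((EtCoh.pull i).obj (EtCoh.const (CohB1.ProjSpace N k) (ZMod m)))) q => x.comp g h))
    (q q' : ℕ) (h : q + 2 = q') (hq' : q' ≤ 2 * N) :
    Function.Bijective (fun x : Ext.{u + 1} (EtCoh.const (CohB1.ProjSpace N k) ℤ)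
        (EtCoh.const (CohB1.ProjSpace N k) (ZMod m)) q =>
      x.comp ((Ext.mk₀ ((EtCoh.pullPushAdj i).unit.app
        (EtCoh.const (CohB1.ProjSpace N k) (ZMod m)))).comp g (zero_add 2)) h) :=
  bijective_hyper' k N m hm t i hi q q' h hq' g (hg _ q q' h)

end Groth.Agent.Lefpen.H287.HypMul
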